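import Groth.Agent.CycLib28.FieldExt.Principal
import Groth.Agent.CycLib28.GysinFlat

/-!
# The pulled back equation of a principal divisor
-/

set_option autoImplicit false
set_option linter.style.haveILetI false
set_option backward.isDefEq.respectTransparency.types false

universe u

open CategoryTheory CategoryTheory.Limits AlgebraicGeometry IsLocalRing Groth.Agent.CycLim28
open Groth.Agent.Coherent Groth.Agent.PicLib

namespace Groth.Agent.CycLib28.FieldExt
open PB

variable {X X' D : Scheme.{u}}

/-- The pullback of the zero scheme, with its equation. -/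
theorem exists_pullSec_isZeroSchemeOf (g : X' ⟶ X) {L : X.Modules} (hL : PicF.IsInvertible L)
    (s : L.presheaf.obj (Opposite.op ⊤)) (i : D ⟶ X) [IsClosedImmersion i] (hD : Cyc.IsZeroSchemeOf i L s) :
    ∃ s' : ((Scheme.Modules.pullback g).obj L).presheaf.obj (Opposite.op ⊤), s' = pullSec g (U := ⊤) s ∧
      Cyc.IsZeroSchemeOf (pullback.fst g i) ((Scheme.Modules.pullback g).obj L) s' := by
  refine ⟨pullSec g (U := ⊤) s, rfl, ?_, fun z => ?_⟩
  · ext x
    obtain ⟨U, hU, e, he⟩ := PicLib.exists_isGen hL (g x)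
    obtain ⟨a, ha⟩ := (VarietyLib.gen_germ_bijective he hU).2 ((L.presheaf.germ ⊤ (g x) trivial) s)
    replace ha : a • L.presheaf.germ U (g x) hU e = (L.presheaf.germ ⊤ (g x) trivial) s := ha
    have h' := germ_pullSec_eq g (L := L) (U := ⊤) s e (ξ := x) trivial hU a ha.symm
    rw [not_mem_range_fst, hD.1]
    show Submodule.Quotient.mk _ = (0 : Cyc.secFibre L (g x)) ↔
      Submodule.Quotient.mk (((Scheme.Modules.pullback g).obj L).presheaf.germ (g ⁻¹ᵁ ⊤) x trivial (pullSec g (U := ⊤) s)) =
        (0 : Cyc.secFibre ((Scheme.Modules.pullback g).obj L) x)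
    rw [← ha, h', mk_eq_zero_iff_gen he, mk_eq_zero_iff_gen (isGen_pullSec g he hL),
      show (X'.residue x).hom ((g.stalkMap x).hom a) = (g.residueFieldMap x).hom ((X.residue (g x)).hom a) from
        (ConcreteCategory.congr_hom (Scheme.residue_residueFieldMap g x) a).symm, map_eq_zero (g.residueFieldMap x).hom]
  · obtain ⟨U, hU, e, he⟩ := PicLib.exists_isGen hL (g (pullback.fst g i z))
    obtain ⟨a, ha⟩ := (VarietyLib.gen_germ_bijective he hU).2 ((L.presheaf.germ ⊤ (g (pullback.fst g i z)) trivial) s)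
    replace ha : a • L.presheaf.germ U (g (pullback.fst g i z)) hU e =
      (L.presheaf.germ ⊤ (g (pullback.fst g i z)) trivial) s := ha
    refine ⟨((Scheme.Modules.pullback g).obj L).presheaf.germ (g ⁻¹ᵁ U) (pullback.fst g i z) hU (pullSec g e),
      (g.stalkMap (pullback.fst g i z)).hom a, ?_, germ_pullSec_eq g (L := L) (U := ⊤) s e trivial hU a ha.symm, ?_⟩
    · refine Submodule.eq_top_iff'.2 fun v => ?_
      obtain ⟨c, hc⟩ := (VarietyLib.gen_germ_bijective (isGen_pullSec g he hL)
        (show pullback.fst g i z ∈ g ⁻¹ᵁ U from hU)).2 v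
      exact Submodule.mem_span_singleton.2 ⟨c, hc⟩
    · have hgi : g (pullback.fst g i z) = i (pullback.snd g i z) :=
        congrArg (fun f : pullback g i ⟶ X ↦ f z) pullback.condition
      obtain ⟨_, ⟨V, hV, rfl⟩, hqV, -⟩ :=
        X.isBasis_affineOpens.exists_subset_of_mem_open (Set.mem_univ (g (pullback.fst g i z))) isOpen_univ
      replace hV : IsAffineOpen V := hV
      rw [ker_stalkMap_fst g i z ⟨V, hV⟩ hqV, ← Set.image_singleton, ← Ideal.map_span]
      refine congrArg (Ideal.map (g.stalkMap (pullback.fst g i z)).hom) ?_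
      have key : ∀ (q : X) (_ : q = i (pullback.snd g i z)) (hq : q ∈ V) (hqU : q ∈ U) (a : X.presheaf.stalk q),
          (L.presheaf.germ ⊤ q trivial) s = a • L.presheaf.germ U q hqU e →
          Ideal.map (X.presheaf.germ V q hq).hom (i.ker.ideal ⟨V, hV⟩) = Ideal.span {a} := by
        rintro q rfl hq hqU a ha
        obtain ⟨t, f, ht, hf, hker⟩ := hD.2 (pullback.snd g i z)
        rw [span_coeff_eq he hqU ht ha hf, ← hker, CAlgH.CIImmersion.ker_stalkMap_eq i _ hV hq,
          ← Scheme.Hom.ker_apply _ ⟨V, hV⟩]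
      exact key _ hgi hqV hU a ha.symm

variable {A : Type u} [CommRing A] [IsDomain A]

/-- A nonzero function stays a nonzerodivisor after a flat base change. -/
theorem injective_smul_pullSec_specSec (a : X ⟶ Spec (CommRingCat.of A)) [Flat a] (q : A) (hq : q ≠ 0) (z : X) :
    Function.Injective fun c : X.presheaf.stalk z =>
      c • ((Scheme.Modules.pullback a).obj (Coh.structureModule _)).presheaf.germ ⊤ z trivial
        (pullSec a (U := ⊤) (specSec q)) := by
  let S := Spec (CommRingCat.of A)
  let q' : S.presheaf.stalk (a z) := S.presheaf.germ ⊤ (a z) trivial ((Scheme.ΓSpecIso (CommRingCat.of A)).inv q)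
  have hgen := isGen_one S
  have h := germ_pullSec_eq a (L := Coh.structureModule S) (U := ⊤) (specSec q) (AmpleLib.oneSec ⊤) (ξ := z)
    trivial trivial q' (germ_specSec q (a z))
  have hq' : q' ≠ 0 := fun e => hq <| by
    have h1 := germ_injective_of_isIntegral S (a z) (U := ⊤) trivial (e.trans (map_zero _).symm)
    simpa using congrArg (Scheme.ΓSpecIso (CommRingCat.of A)).hom h1
  letI := (a.stalkMap z).hom.toAlgebra
  haveI : Module.Flat (S.presheaf.stalk (a z)) (X.presheaf.stalk z) := Flat.stalkMap a z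
  have hreg : Function.Injective fun c : X.presheaf.stalk z => c * (a.stalkMap z).hom q' := by
    have h0 : IsSMulRegular (X.presheaf.stalk z) (algebraMap (S.presheaf.stalk (a z)) (X.presheaf.stalk z) q') :=
      ((isRegular_iff_ne_zero.2 hq').left.isSMulRegular).of_flat
    intro c d hcd
    exact h0 ((mul_comm _ _).trans (hcd.trans (mul_comm _ _)))
  intro c d hcd
  refine hreg ((VarietyLib.gen_germ_bijective (isGen_pullSec a hgen AmpleLib.isInvertible_structureModule)
    (show z ∈ a ⁻¹ᵁ ⊤ from trivial)).1 ?_)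
  simp only [← smul_smul] at hcd ⊢
  rw [← h]
  exact hcd

/-- Finite morphisms have relative dimension zero. -/
theorem hasRelDim_zero_of_finite {Y : Scheme.{u}} (f : X ⟶ Y) [IsFinite f] : Cyc.HasRelDim f 0 := by
  intro y T hT
  have hne : Nonempty T := hT.1.1.to_subtype
  have : Subsingleton T := ⟨fun a b ↦ Subtype.ext <| hT.1.2.subsingleton a.2 b.2⟩
  refine le_antisymm (topologicalKrullDim_zero_of_discreteTopology T) ?_
  haveI : Nonempty (TopologicalSpace.IrreducibleCloseds T) :=
    ⟨⟨Set.univ, ⟨Set.univ_nonempty, (Set.subsingleton_of_subsingleton).isPreirreducible⟩, isClosed_univ⟩⟩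
  exact Order.krullDim_nonneg

end Groth.Agent.CycLib28.FieldExt
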