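import Groth.Agent.CycLib28.FieldExt.RatFuncInj
import Mathlib.FieldTheory.IntermediateField.Adjoin.Basic

/-!
# Extension of the base field is injective on rational Chow groups
-/

set_option autoImplicit false
set_option backward.isDefEq.respectTransparency false
set_option linter.style.haveILetI false

universe u

open CategoryTheory CategoryTheory.Limits AlgebraicGeometry
open scoped IntermediateField

namespace Groth.Agent.CycLib28.FieldExt

theorem injQ_simple (L K : Type u) [Field L] [Field K] [Algebra L K] (x : K) :
    InjQ (algebraMap L L⟮x⟯) := by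
  by_cases hx : IsAlgebraic L x
  · haveI : Module.Finite L L⟮x⟯ := IntermediateField.adjoin.finiteDimensional hx.isIntegral
    exact injQ_of_finite _ (RingHom.finite_algebraMap.2 inferInstance)
  · let e : RatFunc L ≃ₐ[L] L⟮x⟯ := RatFunc.algEquivOfTranscendental x hx
    have h := (injQ_ratFunc L).comp (injQ_of_finite e.toRingEquiv.toRingHom
      (RingHom.Finite.of_surjective _ e.surjective))
    have he : e.toRingEquiv.toRingHom.comp (algebraMap L (RatFunc L)) = algebraMap L L⟮x⟯ :=
      RingHom.ext fun a => e.commutes a
    rwa [he] at h

theorem injQ_of_fg {k K : Type u} [Field k] [Field K] [Algebra k K] (E : IntermediateField k K) (hE : E.FG) :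
    InjQ (algebraMap k E) := by
  refine IntermediateField.induction_on_adjoin_fg (fun E : IntermediateField k K => InjQ (algebraMap k E))
    ?_ ?_ E hE
  · exact injQ_of_finite _ (RingHom.Finite.of_surjective _ fun y => by
      obtain ⟨a, ha⟩ := IntermediateField.mem_bot.1 y.2
      exact ⟨a, Subtype.ext ha⟩)
  · intro L x hL
    have h := hL.comp (injQ_simple L K x)
    have he : (algebraMap L L⟮x⟯).comp (algebraMap k L) = algebraMap k L⟮x⟯ := RingHom.ext fun a => Subtype.ext rfl
    rw [he] at h
    exact h

/-- Any extension of fields. -/
theorem injQ_all {k K : Type u} [Field k] [Field K] (φ : k →+* K) : InjQ φ := by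
  classical
  letI := φ.toAlgebra
  let T : Finset K →o Subfield K :=
    ⟨fun s => (IntermediateField.adjoin k (s : Set K)).toSubfield, fun s t h =>
      IntermediateField.adjoin.mono k _ _ (Finset.coe_subset.2 h)⟩
  refine injQ_of_directed φ T (fun s a => (IntermediateField.adjoin k (s : Set K)).algebraMap_mem a)
    (fun a => ⟨{a}, IntermediateField.subset_adjoin k _ (by simp)⟩) fun s => ?_
  exact injQ_of_fg (IntermediateField.adjoin k (s : Set K)) (IntermediateField.fg_adjoin_finset s)

end Groth.Agent.CycLib28.FieldExt
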