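import Groth.Agent.CycLib28.PB.GysinSquare
import Groth.Agent.AmpleLib.Power

/-!
# Principal closed subschemes of affine schemes as zero schemes
-/

set_option autoImplicit false
set_option backward.isDefEq.respectTransparency false
set_option linter.style.haveILetI false

universe u

open CategoryTheory CategoryTheory.Limits AlgebraicGeometry
open Groth.Agent.Coherent Groth.Agent.PicLib

namespace Groth.Agent.CycLib28.FieldExt

variable {A B : Type u} [CommRing A] [CommRing B]

/-- An element as a section of the structure module of the spectrum. -/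
noncomputable def specSec (a : A) : (Coh.structureModule (Spec (CommRingCat.of A))).presheaf.obj (Opposite.op ⊤) :=
  (Scheme.ΓSpecIso (CommRingCat.of A)).inv a

theorem isGen_one (X : Scheme.{u}) : IsGen (Coh.structureModule X) ⊤ (AmpleLib.oneSec (⊤ : X.Opens)) :=
  AmpleLib.isGen_oneSec ⊤

theorem germ_specSec (a : A) (x : ↥(Spec (CommRingCat.of A))) :
    (Coh.structureModule (Spec (CommRingCat.of A))).presheaf.germ ⊤ x trivial (specSec a) =
      (Spec (CommRingCat.of A)).presheaf.germ ⊤ x trivial ((Scheme.ΓSpecIso (CommRingCat.of A)).inv a) •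
        (Coh.structureModule (Spec (CommRingCat.of A))).presheaf.germ ⊤ x trivial (AmpleLib.oneSec ⊤) := by
  refine (congrArg _ ?_).trans (QCohLoc.germ_smul' _ _ _ _)
  exact (mul_one ((Scheme.ΓSpecIso (CommRingCat.of A)).inv a : Γ(Spec (CommRingCat.of A), ⊤))).symm

theorem mem_maximalIdeal_germ_iff (a : A) (x : ↥(Spec (CommRingCat.of A))) :
    (Spec (CommRingCat.of A)).presheaf.germ ⊤ x trivial ((Scheme.ΓSpecIso (CommRingCat.of A)).inv a) ∈
      IsLocalRing.maximalIdeal _ ↔ a ∈ x.asIdeal := by
  rw [IsLocalRing.mem_maximalIdeal, mem_nonunits_iff, ← Scheme.mem_basicOpen (Spec (CommRingCat.of A)) _ x (show x ∈ (⊤ : (Spec (CommRingCat.of A)).Opens) from trivial),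
    basicOpen_eq_of_affine]
  exact not_not

theorem secFibre_specSec_eq_zero_iff (a : A) (x : ↥(Spec (CommRingCat.of A))) :
    (Submodule.Quotient.mk ((Coh.structureModule (Spec (CommRingCat.of A))).presheaf.germ ⊤ x trivial (specSec a)) :
      Cyc.secFibre (Coh.structureModule (Spec (CommRingCat.of A))) x) = 0 ↔ a ∈ x.asIdeal := by
  rw [germ_specSec, mk_eq_zero_iff_gen (isGen_one _) (Set.mem_univ x), ← mem_maximalIdeal_germ_iff]
  exact IsLocalRing.residue_eq_zero_iff _

/-- A surjection with principal kernel cuts out the zero scheme of the generator. -/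
theorem isZeroSchemeOf_specMap (π : A →+* B) (hπ : Function.Surjective π) (a : A)
    (hker : RingHom.ker π = Ideal.span {a}) :
    Cyc.IsZeroSchemeOf (Spec.map (CommRingCat.ofHom π)) (Coh.structureModule _) (specSec a) := by
  haveI : IsClosedImmersion (Spec.map (CommRingCat.ofHom π)) :=
    IsClosedImmersion.spec_of_surjective (CommRingCat.ofHom π) hπ
  have hgen := isGen_one (Spec (CommRingCat.of A))
  refine ⟨?_, fun d => ?_⟩
  · rw [show Set.range ⇑(Spec.map (CommRingCat.ofHom π)) = PrimeSpectrum.zeroLocus (RingHom.ker π) from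
      range_comap_of_surjective B π hπ, hker, PrimeSpectrum.zeroLocus_span]
    ext x
    rw [PrimeSpectrum.mem_zeroLocus, Set.singleton_subset_iff, SetLike.mem_coe]
    exact (secFibre_specSec_eq_zero_iff a x).symm
  · refine ⟨_, _, ?_, germ_specSec a _, ?_⟩
    · refine Submodule.eq_top_iff'.2 fun v => ?_
      obtain ⟨c, hc⟩ := (VarietyLib.gen_germ_bijective hgen
        (show Spec.map (CommRingCat.ofHom π) d ∈ (⊤ : (Spec (CommRingCat.of A)).Opens) from trivial)).2 v
      exact Submodule.mem_span_singleton.2 ⟨c, hc⟩
    · rw [CAlgH.CIImmersion.ker_stalkMap_eq _ d (isAffineOpen_top _) (hx := trivial), ← Set.image_singleton,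
        ← Ideal.map_span]
      refine congrArg (Ideal.map ((Spec (CommRingCat.of A)).presheaf.germ ⊤ _ trivial).hom) ?_
      ext y
      obtain ⟨b, rfl⟩ := (Scheme.ΓSpecIso (CommRingCat.of A)).commRingCatIsoToRingEquiv.symm.surjective y
      have hnat : ((Spec.map (CommRingCat.ofHom π)).appTop) ((Scheme.ΓSpecIso (CommRingCat.of A)).inv b) =
          (Scheme.ΓSpecIso (CommRingCat.of B)).inv (π b) := by
        have := ConcreteCategory.congr_hom (Scheme.ΓSpecIso_inv_naturality (CommRingCat.ofHom π)) b
        exact this.symm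
      rw [RingHom.mem_ker, Ideal.mem_span_singleton]
      constructor
      · intro h
        have h' : π b = 0 := by
          apply (Scheme.ΓSpecIso (CommRingCat.of B)).commRingCatIsoToRingEquiv.symm.injective
          rw [map_zero]
          exact hnat.symm.trans h
        rw [← RingHom.mem_ker, hker, Ideal.mem_span_singleton] at h'
        exact map_dvd (Scheme.ΓSpecIso (CommRingCat.of A)).inv.hom h'
      · intro h
        have h' : a ∣ b := by
          have := map_dvd (Scheme.ΓSpecIso (CommRingCat.of A)).hom.hom h
          rwa [Iso.inv_hom_id_apply, show (Scheme.ΓSpecIso (CommRingCat.of A)).hom.hom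
            ((Scheme.ΓSpecIso (CommRingCat.of A)).commRingCatIsoToRingEquiv.symm b) = b from
              (Scheme.ΓSpecIso (CommRingCat.of A)).commRingCatIsoToRingEquiv.apply_symm_apply b] at this
        have h'' : π b = 0 := by
          rw [← RingHom.mem_ker, hker, Ideal.mem_span_singleton]
          exact h'
        exact hnat.trans (by rw [h'', map_zero])

end Groth.Agent.CycLib28.FieldExt
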